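import Mathlib

/-!
Maximal points and dominant morphisms.
-/

set_option autoImplicit false

universe u

open CategoryTheory CategoryTheory.Limits AlgebraicGeometry TopologicalSpace Topology

namespace Groth.Agent.DomLib

/-- A maximal point in the closure of the image of a quasi-compact morphism is in the image. -/
theorem mem_range_of_maximal {X S : Scheme.{u}} (f : X ⟶ S) [QuasiCompact f] {η : S}
    (hη : ∀ t, t ⤳ η → t = η) (hcl : η ∈ closure (Set.range f)) : η ∈ Set.range f := by
  obtain ⟨_, ⟨U, hU, rfl⟩, hηU, -⟩ :=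
    S.isBasis_affineOpens.exists_subset_of_mem_open (Set.mem_univ η) isOpen_univ
  obtain ⟨R, g, hg⟩ := isCompact_iff_exists.1
    (f.isCompact_preimage (IsAffineOpen.isCompact hU) : IsCompact (f ⁻¹ᵁ U : Set X))
  obtain ⟨p, rfl⟩ : η ∈ Set.range hU.fromSpec := by rw [hU.range_fromSpec]; exact hηU
  let h : Spec R ⟶ Spec Γ(S, U) := IsOpenImmersion.lift hU.fromSpec (g ≫ f) (by
    rw [hU.range_fromSpec]
    rintro _ ⟨r, rfl⟩
    exact (hg ▸ ⟨r, rfl⟩ : g r ∈ (f ⁻¹ᵁ U : Set X)))
  have hh : h ≫ hU.fromSpec = g ≫ f := IsOpenImmersion.lift_fac _ _ _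
  have hp : p ∈ closure (Set.range h) := by
    rw [mem_closure_iff] at hcl ⊢
    intro O hO hpO
    obtain ⟨_, ⟨q, hq, rfl⟩, x, hx⟩ := hcl (hU.fromSpec '' O) (hU.fromSpec.isOpenEmbedding.isOpenMap O hO) ⟨p, hpO, rfl⟩
    have : x ∈ (f ⁻¹ᵁ U : Set X) := by
      show f x ∈ U
      rw [hx]
      exact (hU.range_fromSpec ▸ ⟨q, rfl⟩ : hU.fromSpec q ∈ (U : Set S))
    rw [← hg] at this
    obtain ⟨r, rfl⟩ := this
    refine ⟨q, hq, r, hU.fromSpec.isOpenEmbedding.injective ?_⟩
    rw [← Scheme.Hom.comp_apply, hh, Scheme.Hom.comp_apply, hx]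
  obtain ⟨φ, hφ⟩ := Spec.map_surjective h
  have hker : RingHom.ker φ.hom ≤ p.asIdeal := by
    rw [← hφ] at hp
    have h2 : p ∈ closure (Set.range (PrimeSpectrum.comap φ.hom)) := hp
    rw [PrimeSpectrum.closure_range_comap] at h2
    exact SetLike.coe_subset_coe.1 ((PrimeSpectrum.mem_zeroLocus p _).1 h2)
  have hmax : p.asIdeal ∈ (RingHom.ker φ.hom).minimalPrimes := by
    refine ⟨⟨p.2, hker⟩, fun I hI hIp => ?_⟩
    have h3 : (⟨I, hI.1⟩ : PrimeSpectrum Γ(S, U)) ⤳ p := (PrimeSpectrum.le_iff_specializes _ _).1 hIp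
    have h4 := hU.fromSpec.isOpenEmbedding.injective (hη _ (h3.map hU.fromSpec.continuous))
    exact (congrArg PrimeSpectrum.asIdeal h4).ge
  obtain ⟨q, hq, -, hqp⟩ := Ideal.exists_comap_eq_of_mem_minimalPrimes (I := ⊥) φ.hom p.asIdeal hmax
  refine ⟨g ⟨q, hq⟩, ?_⟩
  rw [← Scheme.Hom.comp_apply, ← hh, Scheme.Hom.comp_apply, ← hφ]
  exact congrArg hU.fromSpec (PrimeSpectrum.ext hqp)

/-- Generic points of components are the points without generalisations. -/
theorem maximal_of_mem_irreducibleComponents {A : Type u} [TopologicalSpace A] [QuasiSober A] [T0Space A] {η : A}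
    (h : closure {η} ∈ irreducibleComponents A) : ∀ t, t ⤳ η → t = η := fun t ht => by
  have h1 := h.le_of_ge isIrreducible_singleton.closure ht.closure_subset
  exact (ht.antisymm (specializes_iff_closure_subset.2 h1)).eq

/-- Every point generalises to the generic point of a component. -/
theorem exists_component_specializes {A : Type u} [TopologicalSpace A] [QuasiSober A] (x : A) :
    ∃ η : A, closure {η} ∈ irreducibleComponents A ∧ η ⤳ x := by
  have hc := isClosed_irreducibleComponent (x := x)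
  obtain ⟨η, hη⟩ := QuasiSober.sober isIrreducible_irreducibleComponent hc
  exact ⟨η, hη.def.symm ▸ irreducibleComponent_mem_irreducibleComponents x,
    hη.specializes mem_irreducibleComponent⟩

end Groth.Agent.DomLib
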