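import Mathlib
import Groth.Agent.ProConsLib.Range

/-!
The closure of a pro-constructible subset of a scheme.
-/

set_option autoImplicit false

universe u

open CategoryTheory CategoryTheory.Limits AlgebraicGeometry TopologicalSpace Topology

namespace Groth.Agent.DomLib

theorem exists_specializes_of_mem_closure_range {W V : Scheme.{u}} [IsAffine W] [IsAffine V] (g : W ⟶ V)
    {v : V} (hv : v ∈ closure (Set.range g)) : ∃ w, g w ⤳ v := by
  let h : Spec Γ(W, ⊤) ⟶ Spec Γ(V, ⊤) := W.isoSpec.inv ≫ g ≫ V.isoSpec.hom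
  have hp : V.isoSpec.hom v ∈ closure (Set.range (PrimeSpectrum.comap g.appTop.hom)) := by
    refine closure_mono ?_ (image_closure_subset_closure_image V.isoSpec.hom.continuous ⟨v, hv, rfl⟩)
    rintro _ ⟨_, ⟨w, rfl⟩, rfl⟩
    exact ⟨W.isoSpec.hom w, by
      show Spec.map g.appTop (W.isoSpec.hom w) = _
      rw [← Scheme.Hom.comp_apply, Scheme.isoSpec_hom_naturality]; rfl⟩
  rw [PrimeSpectrum.closure_range_comap] at hp
  obtain ⟨q, hq, hqp⟩ := Ideal.exists_minimalPrimes_le
    (SetLike.coe_subset_coe.1 ((PrimeSpectrum.mem_zeroLocus _ _).1 hp))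
  obtain ⟨r, hr, -, hrq⟩ := Ideal.exists_comap_eq_of_mem_minimalPrimes (I := ⊥) g.appTop.hom q hq
  obtain ⟨w, hw⟩ : ∃ w, W.isoSpec.hom w = (⟨r, hr⟩ : PrimeSpectrum Γ(W, ⊤)) :=
    ⟨_, W.isoSpec.hom.homeomorph.apply_symm_apply _⟩
  refine ⟨w, V.isoSpec.hom.isEmbedding.isInducing.specializes_iff.1 ?_⟩
  have he : V.isoSpec.hom (g w) = Spec.map g.appTop (W.isoSpec.hom w) := by
    rw [← Scheme.Hom.comp_apply, ← Scheme.Hom.comp_apply, Scheme.isoSpec_hom_naturality]
  rw [he, hw]
  refine (PrimeSpectrum.le_iff_specializes _ _).1 ?_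
  show r.comap g.appTop.hom ≤ _
  rw [hrq]
  exact hqp

/-- Points of the closure of a pro-constructible set are specializations of its points. -/
theorem exists_specializes_of_mem_closure {X : Scheme.{u}} {E : Set X} (hE : ProCons.IsProConstructible E)
    {x : X} (hx : x ∈ closure E) : ∃ z ∈ E, z ⤳ x := by
  obtain ⟨_, ⟨U, hU, rfl⟩, hxU, -⟩ :=
    X.isBasis_affineOpens.exists_subset_of_mem_open (Set.mem_univ x) isOpen_univ
  haveI : IsAffine (Scheme.Opens.toScheme U) := hU
  haveI : CompactSpace ↥(Scheme.Opens.toScheme U) := isCompact_iff_compactSpace.mp (IsAffineOpen.isCompact hU)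
  obtain ⟨W, g, hW, hg⟩ := Groth.Agent.ProConsLib.exists_affine_range_eq
    (Groth.Agent.ProConsLib.isProConstructible_preimage (Scheme.Opens.ι U) hE)
  have hx' : (⟨x, hxU⟩ : ↥(Scheme.Opens.toScheme U)) ∈ closure (Set.range g) := by
    rw [hg]
    refine ((Scheme.Opens.ι U).isOpenEmbedding.isOpenMap.preimage_closure_eq_closure_preimage
      (Scheme.Opens.ι U).continuous E).subset ?_
    exact hx
  obtain ⟨w, hw⟩ := exists_specializes_of_mem_closure_range g hx'
  exact ⟨_, (hg.subset ⟨w, rfl⟩ : g w ∈ (Scheme.Opens.ι U) ⁻¹' E), hw.map (Scheme.Opens.ι U).continuous⟩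

/-- Singletons are pro-constructible. -/
theorem isProConstructible_singleton {X : Scheme.{u}} (x : X) : ProCons.IsProConstructible ({x} : Set X) := by
  rw [← X.range_fromSpecResidueField x, ← Set.image_univ]
  refine Groth.Agent.ProConsLib.isProConstructible_image _ fun y => ?_
  exact ⟨Set.univ, isOpen_univ, trivial, ∅, fun T hT => hT.elim, by simp⟩

end Groth.Agent.DomLib
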